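import Groth.Agent.Lib.CurveFin32.PicMod
import Groth.Agent.Lib.TateTors22.TorsStruct

/-!
# Degree and torsion of the Picard group of a curve
-/

set_option autoImplicit false
set_option linter.style.haveILetI false
set_option linter.unusedSectionVars false
set_option backward.isDefEq.respectTransparency false
set_option backward.isDefEq.respectTransparency.types false
set_option maxHeartbeats 1000000

universe u

open CategoryTheory CategoryTheory.Limits AlgebraicGeometry MonoidalCategory CartesianMonoidalCategory MonObj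

noncomputable section

namespace Groth.Agent.CurveH32

open Groth.Agent.Abel10 (pc pc_comp pc_id)
open Groth.Agent.JacPts22

noncomputable local instance instLawH32 (Y : Scheme.{u}) : PicGrp.Law Y := M2.law Y

variable {k : Type u} [Field k] [IsAlgClosed k]
variable {C : Scheme.{u}} [C.Over (Spec (CommRingCat.of k))]
  [IsProper (C ↘ Spec (CommRingCat.of k))] [Smooth (C ↘ Spec (CommRingCat.of k))] [IsIntegral C]
  (hdim : topologicalKrullDim C = 1)

variable (k) in
include k hdim in
/-- The Picard group is an extension of `ℤ` by a divisible group, with torsion of rank twice the genus. -/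
theorem pic_structure :
    (∃ D : Additive (PicLoc.PicSet C) →+ ℤ, Function.Surjective D ∧
      ∀ x, D x = 0 → ∀ n : ℕ, 0 < n → ∃ y, n • y = x) ∧
    ∀ n : ℕ, (n : k) ≠ 0 → Nonempty ((powMonoidHom n : PicLoc.PicSet C →* PicLoc.PicSet C).ker ≃*
      Multiplicative (Fin (2 * Curv2.genus k C) → ZMod n)) := by
  let f := C ↘ Spec (CommRingCat.of k)
  haveI : GeometricallyConnected f := AlgClosedExt25.geometricallyConnected_of_connected f
  haveI : GeometricallyIrreducible f := GrpField.geometricallyIrreducible_of_isAlgClosed f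
  haveI : JacobsonSpace C := LocallyOfFiniteType.jacobsonSpace f
  obtain ⟨z, hz⟩ : (closedPoints C).Nonempty := by
    rw [← Set.univ_inter (closedPoints C)]
    exact nonempty_inter_closedPoints Set.univ_nonempty isClosed_univ.isLocallyClosed
  obtain ⟨J, gJ, cJ, ψ, j, hJ, -⟩ := exists_jacobian_pair (C := C) hdim (pointOfClosedPoint f z hz)
    (pointOfClosedPoint_comp f z hz)
  obtain ⟨hp, -, hgi⟩ := jacobian_props hdim _ (pointOfClosedPoint_comp f z hz) hJ
  haveI := hp
  haveI := hgi
  have hg := dim_jacobian hdim _ (pointOfClosedPoint_comp f z hz) hJ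
  let t₀ : (T₀ k).left := IsLocalRing.closedPoint k
  let D : Additive (PicLoc.PicSet C) →+ ℤ :=
    AddMonoidHom.mk' (fun c => PicTan20.degCl f (T₀ k) t₀ (pc (pullback.fst f (T₀ k).hom) c.toMul).1)
      fun a b => by
        rw [toMul_add, map_mul]
        exact PicTan20.degCl_mul f (PicRep20.fiber_dim f hdim) t₀ _ _
  refine ⟨⟨D, ?_, fun x hx n hn => ?_⟩, fun n hn => ?_⟩
  · obtain ⟨w, hw⟩ := PicRep20.exists_degree_class f hdim (pointOfClosedPoint f z hz)
      (pointOfClosedPoint_comp f z hz) (d := 1) zero_le_one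
    intro m
    refine ⟨m • Additive.ofMul w, ?_⟩
    rw [map_zsmul, show D (Additive.ofMul w) = 1 from hw (T₀ k) t₀, zsmul_one, Int.cast_id]
  · obtain ⟨a, ha⟩ := CurveFin32.exists_iota_of_deg hdim J ψ hJ x.toMul fun t => by
      rw [show t = t₀ from Subsingleton.elim (α := Spec (CommRingCat.of k)) _ _]
      exact hx
    obtain ⟨b, hb⟩ := CurveFin32.exists_pow_eq J hn a
    exact ⟨Additive.ofMul (iota hdim J ψ hJ b),
      congrArg Additive.ofMul (((map_pow (iota hdim J ψ hJ) b n).symm.trans (congrArg _ hb)).trans ha)⟩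
  · have hn0 : 0 < n := Nat.pos_of_ne_zero fun h => hn (by rw [h, Nat.cast_zero])
    obtain ⟨e⟩ := TateTors22.nonempty_torsPts_mulEquiv_self (A := J) hg hn
    let θ : AbDual.torsPts J n (𝟙_ (Over (Spec (CommRingCat.of k)))) →*
        (powMonoidHom n : PicLoc.PicSet C →* PicLoc.PicSet C).ker :=
      ((iota hdim J ψ hJ).comp (Subgroup.subtype _)).codRestrict _ fun a => by
        show (iota hdim J ψ hJ a.1) ^ n = 1
        rw [← map_pow, (AbDual.mem_torsPts _ _).1 a.2, map_one]
    have hθ : Function.Bijective θ := by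
      refine ⟨fun a b h => Subtype.ext (iota_injective hdim J ψ hJ (congrArg Subtype.val h)), fun c => ?_⟩
      obtain ⟨a, ha, han⟩ := exists_iota_eq hdim J ψ hJ hn0 c.1 c.2
      exact ⟨⟨a, (AbDual.mem_torsPts _ _).2 han⟩, Subtype.ext ha⟩
    exact ⟨(MulEquiv.ofBijective θ hθ).symm.trans e⟩

end Groth.Agent.CurveH32
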