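import Groth.Agent.Lib.CurveH32.Pic
import Groth.Agent.Lib.CurveFin32.Base

/-!
# Cohomology of `ℤ/n` on a smooth proper curve
-/

set_option autoImplicit false
set_option linter.style.haveILetI false
set_option linter.unusedSectionVars false
set_option backward.isDefEq.respectTransparency.types false
set_option maxHeartbeats 1000000

universe u

open CategoryTheory CategoryTheory.Limits AlgebraicGeometry Opposite CategoryTheory.Abelian

noncomputable section

namespace Groth.Agent.CurveH32

open Groth.Agent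

noncomputable local instance instLawCoh32 (Y : Scheme.{u}) : PicGrp.Law Y := M2.law Y

variable {k : Type u} [Field k] [IsAlgClosed k]

/-- On a curve the units have no torsion in degree two of order prime to the characteristic. -/
theorem eq_zero_of_nsmul {X : Scheme.{u}} (f : X ⟶ Spec (CommRingCat.of k)) [LocallyOfFiniteType f] [QuasiCompact f]
    (hdim : topologicalKrullDim X ≤ 1) (m : ℕ) : (m : k) ≠ 0 →
      ∀ ξ : EtCoh.H X (EtCoh.Gm X) 2, m • ξ = 0 → ξ = 0 := by
  induction m using Nat.strong_induction_on with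
  | _ m ih =>
    intro hm ξ hξ
    rcases eq_or_ne m 1 with rfl | h1
    · rwa [one_smul] at hξ
    obtain ⟨ℓ, hℓ, d, rfl⟩ := Nat.exists_prime_and_dvd h1
    rw [Nat.cast_mul, mul_ne_zero_iff] at hm
    have hd0 : 0 < d := Nat.pos_of_ne_zero fun h => hm.2 (by simp [h])
    refine ih d (lt_mul_of_one_lt_left hd0 hℓ.one_lt) hm.2 ξ ?_
    refine PBC24.eq_zero_of_pow_nsmul_curve f hdim hℓ hm.1 le_rfl _ (e := 1) ?_
    rw [pow_one, ← mul_nsmul']
    exact hξ

/-- The first and second cohomology of `ℤ/n`. -/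
theorem nonempty_H_one_two {C : Scheme.{u}} [C.Over (Spec (CommRingCat.of k))]
    [IsProper (C ↘ Spec (CommRingCat.of k))] [Smooth (C ↘ Spec (CommRingCat.of k))] [IsIntegral C]
    (hdim : topologicalKrullDim C = 1) {n : ℕ} (hn : 1 ≤ n) (hnk : (n : k) ≠ 0) :
    Nonempty (EtCoh.H C (EtCoh.const C (ZMod n)) 1 ≃+ (Fin (2 * Curv2.genus k C) → ZMod n)) ∧
    Nonempty (EtCoh.H C (EtCoh.const C (ZMod n)) 2 ≃+ ZMod n) := by
  classical
  let f := C ↘ Spec (CommRingCat.of k)
  haveI : CompactSpace C := QuasiCompact.compactSpace_of_compactSpace f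
  haveI : QuasiSeparatedSpace C := quasiSeparatedSpace_of_quasiSeparated f
  haveI : NeZero n := ⟨by omega⟩
  obtain ⟨z, hz⟩ := IsAlgClosed.exists_root (Polynomial.cyclotomic n k) (Polynomial.degree_cyclotomic_pos n k hn).ne'
  let φ : k →+* Γ(C, ⊤) := ((Scheme.ΓSpecIso (CommRingCat.of k)).inv ≫ f.appTop).hom
  have hu : IsUnit (n : Γ(C, ⊤)) := by
    have := (isUnit_iff_ne_zero.2 hnk).map φ
    rwa [map_natCast] at this
  let ζ := φ z
  have hζ : Polynomial.aeval ζ (Polynomial.cyclotomic n ℤ) = 0 := by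
    have h : (Polynomial.cyclotomic n Γ(C, ⊤)).eval ζ = 0 := by
      rw [← Polynomial.map_cyclotomic n φ, Polynomial.eval_map, Polynomial.eval₂_hom, hz.eq_zero, map_zero]
    rw [← Polynomial.map_cyclotomic_int n, Polynomial.eval_map] at h
    rw [Polynomial.aeval_def, algebraMap_int_eq]
    exact h
  let S := PBC24.kummerSeq hn ζ hζ
  have hS := PBC24.kummerSeq_shortExact hn hu ζ hζ
  obtain ⟨hdiv, -⟩ := CurveFin32.gm_sections f (ℓ := n) (by omega)
  obtain ⟨e⟩ := S15401.result C
  obtain ⟨⟨D, hDs, hDk⟩, htor⟩ := pic_structure k hdim (C := C)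
  refine ⟨?_, ?_⟩
  · obtain ⟨t⟩ := htor n hnk
    let i : EtCoh.H C (EtCoh.const C (ZMod n)) 1 →+ EtCoh.H C (EtCoh.Gm C) 1 := Sheaf.H.map S.f 1
    have hi : Function.Injective i := by
      refine (injective_iff_map_eq_zero i).2 fun x hx => ?_
      obtain ⟨w, rfl⟩ := Ext.covariant_sequence_exact₁ _ hS x hx (n₀ := 0) rfl
      obtain ⟨s, hs⟩ := hdiv (PointLim24.H0Sec _ _ w)
      obtain ⟨w', rfl⟩ := (PointLim24.H0Sec C (EtCoh.Gm C)).surjective s
      have hw' : w'.comp (Ext.mk₀ S.g) (add_zero 0) = w := (PointLim24.H0Sec C (EtCoh.Gm C)).injective (by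
        rw [← hs, ← CurveFin32.powMap_app]
        exact CurveFin32.H0Sec_comp (EtCoh.powMap C n) w')
      rw [← hw']
      exact CurveFin32.comp_mk₀_extClass hS _ w'
    let j : Additive (powMonoidHom n : PicLoc.PicSet C →* PicLoc.PicSet C).ker →+ EtCoh.H C (EtCoh.Gm C) 1 :=
      e.toAddMonoidHom.comp (MonoidHom.toAdditive (Subgroup.subtype _))
    have hj : Function.Injective j := e.injective.comp fun a b h => Subtype.ext h
    have hr : i.range = j.range := by
      ext y
      constructor
      · rintro ⟨x, rfl⟩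
        refine ⟨Additive.ofMul ⟨(e.symm (i x)).toMul, ?_⟩, e.apply_symm_apply _⟩
        show (e.symm (i x)).toMul ^ n = 1
        have h0 : n • i x = 0 := by
          rw [← CurveFin32.comp_powMap]
          exact CurveFin32.comp_mk₀_eq_zero S.zero x
        exact congrArg Additive.toMul ((map_nsmul e.symm n (i x)).symm.trans ((congrArg e.symm h0).trans (map_zero _)))
      · rintro ⟨a, rfl⟩
        have h0 : (j a).comp (Ext.mk₀ S.g) (add_zero 1) = 0 := by
          refine (CurveFin32.comp_powMap n (j a)).trans ?_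
          rw [← map_nsmul, show n • a = 0 from Subtype.ext a.toMul.2]
          exact map_zero j
        obtain ⟨x, hx⟩ := Ext.covariant_sequence_exact₂ _ hS (j a) h0
        exact ⟨x, hx⟩
    exact ⟨((AddMonoidHom.ofInjective hi).trans ((AddEquiv.addSubgroupCongr hr).trans
      (AddMonoidHom.ofInjective hj).symm)).trans
        ((MulEquiv.toAdditive t).trans (AddEquiv.additiveMultiplicative _))⟩
  · let δ : EtCoh.H C (EtCoh.Gm C) 1 →+ EtCoh.H C (EtCoh.const C (ZMod n)) 2 := hS.extClass.postcomp _ rfl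
    have hδ : Function.Surjective δ := fun x => by
      have h0 : x.comp (Ext.mk₀ S.f) (add_zero 2) = 0 := by
        refine eq_zero_of_nsmul f hdim.le n hnk _ ?_
        rw [← CurveFin32.comp_powMap]
        exact CurveFin32.comp_mk₀_eq_zero S.zero x
      obtain ⟨c, hc⟩ := Ext.covariant_sequence_exact₁ _ hS x h0 (n₀ := 1) rfl
      exact ⟨c, hc⟩
    let ψ : EtCoh.H C (EtCoh.Gm C) 1 →+ ZMod n := (Int.castAddHom (ZMod n)).comp (D.comp e.symm.toAddMonoidHom)
    have hψ : Function.Surjective ψ := fun c => by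
      obtain ⟨m, hm⟩ := ZMod.intCast_surjective c
      obtain ⟨x, hx⟩ := hDs m
      exact ⟨e x, by simp [ψ, hx, hm]⟩
    have hk : δ.ker = ψ.ker := by
      ext c
      constructor
      · intro hc
        obtain ⟨w, rfl⟩ := Ext.covariant_sequence_exact₃ _ hS c (n₁ := 2) rfl hc
        refine (congrArg ψ (CurveFin32.comp_powMap n w)).trans ?_
        rw [map_nsmul, nsmul_eq_mul, ZMod.natCast_self, zero_mul]
      · intro hc
        obtain ⟨a, ha⟩ := (ZMod.intCast_zmod_eq_zero_iff_dvd _ n).1 (show ((D (e.symm c) : ℤ) : ZMod n) = 0 from hc)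
        obtain ⟨x, hx⟩ := hDs a
        obtain ⟨y, hy⟩ := hDk (e.symm c - n • x) (by rw [map_sub, map_nsmul, hx, ha]; simp) n (by omega)
        have hc' : c = n • e (x + y) := by
          rw [← map_nsmul, smul_add, hy, add_sub_cancel, AddEquiv.apply_symm_apply]
        show c.comp hS.extClass rfl = 0
        rw [hc', ← CurveFin32.comp_powMap]
        exact CurveFin32.comp_mk₀_extClass hS _ _
    exact ⟨((QuotientAddGroup.quotientKerEquivOfSurjective δ hδ).symm.trans
      (QuotientAddGroup.quotientAddEquivOfEq hk)).trans (QuotientAddGroup.quotientKerEquivOfSurjective ψ hψ)⟩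

end Groth.Agent.CurveH32
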